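import Mathlib.RingTheory.Flat.Basic
import Mathlib.LinearAlgebra.TensorProduct.RightExactness
import Mathlib.LinearAlgebra.TensorProduct.Quotient
import Mathlib.RingTheory.Flat.Stability
import Mathlib.RingTheory.Flat.Tensor

import Mathlib.RingTheory.Filtration
import Mathlib.Algebra.Module.Torsion.Basic
import Mathlib.LinearAlgebra.TensorProduct.Tower
import Mathlib.LinearAlgebra.DirectSum.Finsupp
import Mathlib.LinearAlgebra.TensorProduct.Pi
import Mathlib.RingTheory.TensorProduct.Basic

/-!
# The class of modules `N` with "`Tor₁(M, N) = 0`", without Tor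

`Good R M N` says: for every short exact sequence `0 → A → B → N → 0` the map `M ⊗ A → M ⊗ B`
is injective.
-/

universe u v

namespace GrothLib.FlatUniv21

open TensorProduct Function

variable (R : Type u) [CommRing R] (M : Type v) [AddCommGroup M] [Module R M]

/-- `Tor₁(M, N) = 0`, formulated without Tor. -/
def Good (N : Type u) [AddCommGroup N] [Module R N] : Prop :=
  ∀ (A B : Type u) [AddCommGroup A] [Module R A] [AddCommGroup B] [Module R B]
    (i : A →ₗ[R] B) (p : B →ₗ[R] N), Injective i → Surjective p → Exact i p →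
      Injective (i.lTensor M)

variable {R M}
variable {N N₁ N₂ F K : Type u} [AddCommGroup N] [Module R N] [AddCommGroup N₁] [Module R N₁]
  [AddCommGroup N₂] [Module R N₂] [AddCommGroup F] [Module R F] [AddCommGroup K] [Module R K]

theorem Good.of_equiv (e : N₁ ≃ₗ[R] N₂) (h : Good R M N₁) : Good R M N₂ := by
  intro A B _ _ _ _ i p hi hp hex
  refine h A B i (e.symm.toLinearMap ∘ₗ p) hi (e.symm.surjective.comp hp) ?_
  intro b
  simp [← hex b]

theorem Good.extension (f : N₁ →ₗ[R] N) (g : N →ₗ[R] N₂) (hf : Injective f) (hg : Surjective g)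
    (hfg : Exact f g) (h₁ : Good R M N₁) (h₂ : Good R M N₂) : Good R M N := by
  intro A B _ _ _ _ i p hi hp hex
  let B₁ : Submodule R B := Submodule.comap p (LinearMap.range f)
  let i₁ : A →ₗ[R] B₁ := i.codRestrict B₁ fun a => by
    show p (i a) ∈ LinearMap.range f
    rw [hex.apply_apply_eq_zero a]
    exact zero_mem _
  let p₁ : B₁ →ₗ[R] N₁ :=
    (LinearEquiv.ofInjective f hf).symm.toLinearMap ∘ₗ
      (p ∘ₗ B₁.subtype).codRestrict (LinearMap.range f) fun b => b.2
  have hp₁f : ∀ b : B₁, f (p₁ b) = p b := fun b => by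
    have := (LinearEquiv.ofInjective f hf).apply_symm_apply
      ((p ∘ₗ B₁.subtype).codRestrict (LinearMap.range f) (fun b => b.2) b)
    exact congrArg Subtype.val this
  have e1 : Injective (i₁.lTensor M) := by
    refine h₁ A B₁ i₁ p₁ ?_ ?_ ?_
    · intro a b hab
      exact hi (congrArg Subtype.val hab)
    · intro n
      obtain ⟨b, hb⟩ := hp (f n)
      refine ⟨⟨b, show p b ∈ LinearMap.range f from ⟨n, hb.symm⟩⟩, hf ?_⟩
      rw [hp₁f]
      exact hb
    · intro b
      constructor
      · intro hb
        obtain ⟨a, ha⟩ := (hex (b : B)).mp (by rw [← hp₁f, hb, map_zero])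
        exact ⟨a, Subtype.ext ha⟩
      · rintro ⟨a, rfl⟩
        apply hf
        rw [hp₁f, map_zero]
        exact hex.apply_apply_eq_zero a
  have e2 : Injective (B₁.subtype.lTensor M) := by
    refine h₂ B₁ B B₁.subtype (g ∘ₗ p) B₁.injective_subtype (hg.comp hp) ?_
    intro b
    constructor
    · intro hb
      exact ⟨⟨b, (hfg (p b)).mp hb⟩, rfl⟩
    · rintro ⟨⟨b', n, hn⟩, rfl⟩
      show g (p b') = 0
      rw [← hn, hfg.apply_apply_eq_zero]
  have : i = B₁.subtype ∘ₗ i₁ := rfl
  rw [this, LinearMap.lTensor_comp]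
  exact e2.comp e1

theorem Good.of_projective [Module.Projective R N] : Good R M N := by
  intro A B _ _ _ _ i p hi hp hex
  obtain ⟨s, hs⟩ := Module.projective_lifting_property p LinearMap.id hp
  have hmem : ∀ b, b - s (p b) ∈ LinearMap.range i := fun b => (hex _).mp (by
    have : p (s (p b)) = p b := LinearMap.congr_fun hs (p b)
    rw [map_sub, this, sub_self])
  let r : B →ₗ[R] A := (LinearEquiv.ofInjective i hi).symm.toLinearMap ∘ₗ
    (LinearMap.id - s ∘ₗ p).codRestrict (LinearMap.range i) hmem
  have hr : ∀ a, r (i a) = a := fun a => by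
    apply hi
    have h1 := congrArg Subtype.val ((LinearEquiv.ofInjective i hi).apply_symm_apply
      ((LinearMap.id - s ∘ₗ p).codRestrict (LinearMap.range i) hmem (i a)))
    have h2 : i (r (i a)) = i a - s (p (i a)) := h1
    rw [h2, hex.apply_apply_eq_zero, map_zero, sub_zero]
  have hri : r ∘ₗ i = LinearMap.id := LinearMap.ext hr
  intro x y hxy
  have := congrArg (r.lTensor M) hxy
  rwa [← LinearMap.lTensor_comp_apply, ← LinearMap.lTensor_comp_apply, hri,
    LinearMap.lTensor_id_apply, LinearMap.lTensor_id_apply] at this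

/-- If `0 → K → F → N → 0` is exact, `F` is good and `M ⊗ K → M ⊗ F` is injective, then `N` is
good. -/
theorem Good.of_presentation (k : K →ₗ[R] F) (q : F →ₗ[R] N) (hk : Injective k)
    (hq : Surjective q) (hkq : Exact k q) (hF : Good R M F) (hinj : Injective (k.lTensor M)) :
    Good R M N := by
  intro A B _ _ _ _ i p hi hp hex
  let P : Submodule R (B × F) :=
    LinearMap.ker (p ∘ₗ LinearMap.fst R B F - q ∘ₗ LinearMap.snd R B F)
  have hP : ∀ x : B × F, x ∈ P ↔ p x.1 = q x.2 := fun x => by simp [P, sub_eq_zero]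
  let α : A →ₗ[R] P := (LinearMap.inl R B F ∘ₗ i).codRestrict P fun a => by
    rw [hP]; simpa using hex.apply_apply_eq_zero a
  let β : K →ₗ[R] P := (LinearMap.inr R B F ∘ₗ k).codRestrict P fun a => by
    rw [hP]; simpa using (hkq.apply_apply_eq_zero a).symm
  let πB : P →ₗ[R] B := LinearMap.fst R B F ∘ₗ P.subtype
  let πF : P →ₗ[R] F := LinearMap.snd R B F ∘ₗ P.subtype
  have hπF : Surjective πF := fun f => by
    obtain ⟨b, hb⟩ := hp (q f)
    exact ⟨⟨(b, f), (hP _).mpr hb⟩, rfl⟩
  have hπB : Surjective πB := fun b => by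
    obtain ⟨f, hf⟩ := hq (p b)
    exact ⟨⟨(b, f), (hP _).mpr hf.symm⟩, rfl⟩
  have hαex : Exact α πF := by
    rintro ⟨⟨b, f⟩, hbf⟩
    constructor
    · intro (hf : f = 0)
      subst hf
      obtain ⟨a, ha⟩ := (hex b).mp (by simpa using (hP _).mp hbf)
      exact ⟨a, Subtype.ext (Prod.ext ha rfl)⟩
    · rintro ⟨a, ha⟩
      exact (congrArg (fun x : P => (x : B × F).2) ha).symm
  have hβex : Exact β πB := by
    rintro ⟨⟨b, f⟩, hbf⟩
    constructor
    · intro (hb : b = 0)
      subst hb
      obtain ⟨c, hc⟩ := (hkq f).mp (by simpa using ((hP _).mp hbf).symm)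
      exact ⟨c, Subtype.ext (Prod.ext rfl hc)⟩
    · rintro ⟨a, ha⟩
      exact (congrArg (fun x : P => (x : B × F).1) ha).symm
  have hαi : Injective α := fun a b h =>
    hi (congrArg (fun x : P => (x : B × F).1) h)
  have hα : Injective (α.lTensor M) := hF A P α πF hαi hπF hαex
  rw [injective_iff_map_eq_zero]
  intro x hx
  have hπBα : πB ∘ₗ α = i := rfl
  have hx' : πB.lTensor M (α.lTensor M x) = 0 := by
    rw [← LinearMap.lTensor_comp_apply, hπBα, hx]
  obtain ⟨z, hz⟩ := (lTensor_exact M hβex hπB _).mp hx'
  have hπFβ : πF ∘ₗ β = k := rfl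
  have hπFα : πF ∘ₗ α = 0 := rfl
  have : k.lTensor M z = 0 := by
    rw [← hπFβ, LinearMap.lTensor_comp_apply, hz, ← LinearMap.lTensor_comp_apply, hπFα,
      LinearMap.lTensor_zero, LinearMap.zero_apply]
  have hz0 : z = 0 := hinj (by rw [this, map_zero])
  apply hα
  rw [← hz, hz0, map_zero, map_zero]

theorem flat_of_good (h : ∀ (I : Ideal R), I.FG → Good R M (R ⧸ I)) : Module.Flat R M := by
  rw [Module.Flat.iff_lTensor_injective]
  intro I hI
  exact h I hI I R I.subtype I.mkQ I.injective_subtype I.mkQ_surjective (LinearMap.exact_subtype_mkQ I)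

theorem Good.lTensor_injective {A B : Type u} [AddCommGroup A] [Module R A] [AddCommGroup B]
    [Module R B] (i : A →ₗ[R] B) (hi : Injective i) (h : Good R M (B ⧸ LinearMap.range i)) :
    Injective (i.lTensor M) :=
  h A B i (LinearMap.range i).mkQ hi (Submodule.mkQ_surjective _) (LinearMap.exact_map_mkQ_range i)

/-- If `M/IM` is flat over `R/I`, tensoring with `M` keeps injective maps of `I`-torsion modules
injective. -/
theorem lTensor_injective_of_flat_quotient (I : Ideal R)
    (h : Module.Flat (R ⧸ I) ((R ⧸ I) ⊗[R] M)) {A B : Type u} [AddCommGroup A] [Module R A]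
    [AddCommGroup B] [Module R B] (hA : Module.IsTorsionBySet R A I)
    (hB : Module.IsTorsionBySet R B I) (f : A →ₗ[R] B) (hf : Injective f) :
    Injective (f.lTensor M) := by
  letI := hA.module
  letI := hB.module
  haveI : IsScalarTower R (R ⧸ I) A := hA.isScalarTower
  haveI : IsScalarTower R (R ⧸ I) B := hB.isScalarTower
  let f' : A →ₗ[R ⧸ I] B :=
    { toFun := f
      map_add' := f.map_add
      map_smul' := fun r a => by
        obtain ⟨r, rfl⟩ := Ideal.Quotient.mk_surjective r
        exact f.map_smul r a }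
  have h1 : Injective (f'.rTensor ((R ⧸ I) ⊗[R] M)) :=
    Module.Flat.rTensor_preserves_injective_linearMap f' hf
  rw [LinearMap.lTensor_inj_iff_rTensor_inj]
  let eA := AlgebraTensorModule.cancelBaseChange R (R ⧸ I) (R ⧸ I) A M
  let eB := AlgebraTensorModule.cancelBaseChange R (R ⧸ I) (R ⧸ I) B M
  have key : ∀ x, eB (f'.rTensor _ x) = f.rTensor M (eA x) := fun x => by
    induction x using TensorProduct.induction_on with
    | zero => simp
    | add x y hx hy => simp only [map_add, hx, hy]
    | tmul a y =>
      induction y using TensorProduct.induction_on with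
      | zero => simp
      | add x y hx hy => simp only [tmul_add, map_add, hx, hy]
      | tmul r m =>
        simp only [eA, eB, LinearMap.rTensor_tmul, AlgebraTensorModule.cancelBaseChange_tmul]
        exact congrArg (fun z => z ⊗ₜ[R] m) (f'.map_smul r a).symm
  intro x y hxy
  obtain ⟨x, rfl⟩ := eA.surjective x
  obtain ⟨y, rfl⟩ := eA.surjective y
  rw [← key, ← key] at hxy
  rw [h1 (eB.injective hxy)]

theorem good_quotient (I : Ideal R) (h1 : Injective (I.subtype.lTensor M)) : Good R M (R ⧸ I) :=
  Good.of_presentation I.subtype I.mkQ I.injective_subtype I.mkQ_surjective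
    (LinearMap.exact_subtype_mkQ I) Good.of_projective h1

theorem finsupp_mapRange_lTensor_injective {ι : Type u} {A B : Type u} [AddCommGroup A]
    [Module R A] [AddCommGroup B] [Module R B] (f : A →ₗ[R] B) (h : Injective (f.lTensor M)) :
    Injective ((Finsupp.mapRange.linearMap (α := ι) f).lTensor M) := by
  classical
  let eA := TensorProduct.finsuppRight R R M A ι
  let eB := TensorProduct.finsuppRight R R M B ι
  have key : ∀ x, eB ((Finsupp.mapRange.linearMap (α := ι) f).lTensor M x) =
      Finsupp.mapRange.linearMap (f.lTensor M) (eA x) := fun x => by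
    induction x using TensorProduct.induction_on with
    | zero => simp
    | add x y hx hy => simp only [map_add, hx, hy]
    | tmul m a =>
      ext i
      simp [eA, eB, TensorProduct.finsuppRight_apply_tmul_apply]
  intro x y hxy
  apply eA.injective
  refine Finsupp.mapRange_injective (f.lTensor M) (map_zero _) h ?_
  have := congrArg eB hxy
  rwa [key, key] at this

/-- The local criterion, first step: modules killed by `I` are good. -/
theorem good_of_isTorsionBySet (I : Ideal R) (h1 : Injective (I.subtype.lTensor M))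
    (h2 : Module.Flat (R ⧸ I) ((R ⧸ I) ⊗[R] M)) (N : Type u) [AddCommGroup N] [Module R N]
    (hN : Module.IsTorsionBySet R N I) : Good R M N := by
  -- `N →₀ R/I` is good
  have hF : Good R M (N →₀ R ⧸ I) := by
    refine Good.of_presentation (Finsupp.mapRange.linearMap (α := N) I.subtype)
      (Finsupp.mapRange.linearMap I.mkQ)
      (Finsupp.mapRange_injective _ (map_zero _) I.injective_subtype)
      (Finsupp.mapRange_surjective _ (map_zero _) I.mkQ_surjective) ?_ Good.of_projective
      (finsupp_mapRange_lTensor_injective _ h1)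
    intro x
    constructor
    · intro hx
      have hmem : ∀ i, x i ∈ I := fun i => by
        have := DFunLike.congr_fun hx i
        simpa [Ideal.Quotient.eq_zero_iff_mem] using this
      classical
      exact ⟨Finsupp.onFinset x.support (fun i => ⟨x i, hmem i⟩) fun i hi => by
        simp only [Finsupp.mem_support_iff]; intro h; exact hi (Subtype.ext h), by ext; simp⟩
    · rintro ⟨y, rfl⟩
      ext i
      exact (Ideal.Quotient.eq_zero_iff_mem).mpr (y i).2
  letI := hN.module
  haveI : IsScalarTower R (R ⧸ I) N := hN.isScalarTower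
  let q : (N →₀ R ⧸ I) →ₗ[R] N := (Finsupp.linearCombination (R ⧸ I) id).restrictScalars R
  refine Good.of_presentation (K := ↥(LinearMap.ker q)) (Submodule.subtype _) q
    (Submodule.injective_subtype _) (fun n => ⟨Finsupp.single n 1, by simp [q]⟩)
    (LinearMap.exact_subtype_ker_map q) hF ?_
  have ht : Module.IsTorsionBySet R (N →₀ R ⧸ I) I := fun x a => by
    refine Finsupp.ext fun i => ?_
    rw [Finsupp.smul_apply, Finsupp.zero_apply, Algebra.smul_def]
    have : algebraMap R (R ⧸ I) (a : R) = 0 := Ideal.Quotient.eq_zero_iff_mem.mpr a.2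
    rw [this, zero_mul]
  exact lTensor_injective_of_flat_quotient I h2
    (fun x a => Subtype.ext (@ht x.1 a)) ht _ (Submodule.injective_subtype _)

/-- The local criterion: modules killed by a power of `I` are good. -/
theorem good_of_pow (I : Ideal R) (h1 : Injective (I.subtype.lTensor M))
    (h2 : Module.Flat (R ⧸ I) ((R ⧸ I) ⊗[R] M)) (n : ℕ) (N : Type u) [AddCommGroup N]
    [Module R N] (hN : Module.IsTorsionBySet R N (I ^ n : Ideal R)) : Good R M N := by
  induction n generalizing N with
  | zero =>
    refine good_of_isTorsionBySet I h1 h2 N fun x a => ?_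
    have : x = 0 := by simpa using @hN x ⟨1, by simp⟩
    simp [this]
  | succ n ih =>
    let N₁ : Submodule R N := I • ⊤
    refine Good.extension N₁.subtype N₁.mkQ N₁.injective_subtype N₁.mkQ_surjective
      (LinearMap.exact_subtype_mkQ N₁) (ih N₁ ?_) (good_of_isTorsionBySet I h1 h2 _ ?_)
    · rintro ⟨x, hx⟩ a
      refine Subtype.ext ?_
      show (a : R) • x = 0
      refine Submodule.smul_induction_on hx ?_ ?_
      · intro b hb y _
        rw [smul_smul]
        exact @hN y ⟨a * b, by rw [pow_succ]; exact Ideal.mul_mem_mul a.2 hb⟩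
      · intro y z hy hz
        rw [smul_add, hy, hz, add_zero]
    · intro x a
      obtain ⟨y, rfl⟩ := N₁.mkQ_surjective x
      rw [← map_smul]
      exact (Submodule.Quotient.mk_eq_zero _).mpr (Submodule.smul_mem_smul a.2 trivial)

/-- Local criterion for a nilpotent ideal: no finiteness needed. -/
theorem flat_of_isNilpotent (I : Ideal R) (hI : IsNilpotent I)
    (h1 : Injective (I.subtype.lTensor M))
    (h2 : Module.Flat (R ⧸ I) ((R ⧸ I) ⊗[R] M)) : Module.Flat R M := by
  obtain ⟨n, hn⟩ := hI
  refine flat_of_good fun J _ => good_of_pow I h1 h2 n _ fun x a => ?_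
  have h0 : (a : R) = 0 := by simpa using (SetLike.ext_iff.mp hn (a : R)).mp a.2
  rw [h0, zero_smul]

end GrothLib.FlatUniv21
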